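import Mathlib

/-! Base change of exterior powers (injectivity through the exterior algebra, surjectivity through
generators). -/

open TensorProduct exteriorPower

namespace Groth.Agent.Lib.Helper5.DRBC

section Proj
variable {A : Type*} [CommRing A] {M : Type*} [AddCommGroup M] [Module A M]

/-- graded projection of the exterior algebra onto the `p`-th exterior power -/
noncomputable def gproj (p : ℕ) : ExteriorAlgebra A M →ₗ[A] ↥(⋀[A]^p M) :=
  (DirectSum.component A ℕ (fun i => ↥(⋀[A]^i M)) p) ∘ₗ
    (DirectSum.decomposeLinearEquiv (fun i : ℕ => ⋀[A]^i M)).toLinearMap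

theorem gproj_coe (p : ℕ) (x : ↥(⋀[A]^p M)) : gproj p (x : ExteriorAlgebra A M) = x := by
  unfold gproj
  rw [LinearMap.comp_apply, LinearEquiv.coe_coe, DirectSum.decomposeLinearEquiv_apply,
    DirectSum.decompose_coe]
  simp only [DirectSum.component, DFinsupp.lapply_apply]
  exact DirectSum.of_eq_same _ _

end Proj

section BC
variable {A B : Type*} [CommRing A] [CommRing B] [Algebra A B] {M : Type*} [AddCommGroup M]
  [Module A M]

variable (A B M) in
/-- `b ⊗ m ↦ b ⊗ ι m` -/
noncomputable def ell : B ⊗[A] M →ₗ[B] B ⊗[A] ExteriorAlgebra A M :=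
  (ExteriorAlgebra.ι A).baseChange B

theorem ell_tmul (b : B) (m : M) : ell A B M (b ⊗ₜ m) = b ⊗ₜ ExteriorAlgebra.ι A m := rfl

theorem ell_anti (x y : B ⊗[A] M) : ell A B M x * ell A B M y + ell A B M y * ell A B M x = 0 := by
  induction x using TensorProduct.induction_on with
  | zero => simp
  | add x x' hx hx' =>
    rw [map_add, add_mul, mul_add]
    calc _ = (ell A B M x * ell A B M y + ell A B M y * ell A B M x) +
        (ell A B M x' * ell A B M y + ell A B M y * ell A B M x') := by abel
      _ = 0 := by rw [hx, hx', add_zero]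
  | tmul b m =>
    induction y using TensorProduct.induction_on with
    | zero => simp
    | add y y' hy hy' =>
      rw [map_add, add_mul, mul_add]
      calc _ = (ell A B M (b ⊗ₜ m) * ell A B M y + ell A B M y * ell A B M (b ⊗ₜ m)) +
          (ell A B M (b ⊗ₜ m) * ell A B M y' + ell A B M y' * ell A B M (b ⊗ₜ m)) := by abel
        _ = 0 := by rw [hy, hy', add_zero]
    | tmul b' m' =>
      rw [ell_tmul, ell_tmul, Algebra.TensorProduct.tmul_mul_tmul,
        Algebra.TensorProduct.tmul_mul_tmul, mul_comm b' b, ← TensorProduct.tmul_add,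
        ExteriorAlgebra.ι_add_mul_swap, TensorProduct.tmul_zero]

theorem ell_sq (x : B ⊗[A] M) : ell A B M x * ell A B M x = 0 := by
  induction x using TensorProduct.induction_on with
  | zero => simp
  | add x y hx hy =>
    rw [map_add, add_mul, mul_add, mul_add, hx, hy]
    have := ell_anti (A := A) (B := B) (M := M) x y
    calc _ = ell A B M x * ell A B M y + ell A B M y * ell A B M x := by abel
      _ = 0 := this
  | tmul b m =>
    rw [ell_tmul, Algebra.TensorProduct.tmul_mul_tmul, ExteriorAlgebra.ι_sq_zero,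
      TensorProduct.tmul_zero]

variable (A B M) in
/-- the `B`-algebra map `⋀_B (B ⊗ M) → B ⊗ ⋀_A M` -/
noncomputable def psiBC : ExteriorAlgebra B (B ⊗[A] M) →ₐ[B] B ⊗[A] ExteriorAlgebra A M :=
  ExteriorAlgebra.lift B ⟨ell A B M, ell_sq⟩

theorem psiBC_ι (x : B ⊗[A] M) : psiBC A B M (ExteriorAlgebra.ι B x) = ell A B M x :=
  ExteriorAlgebra.lift_ι_apply _ _ _ _

theorem psiBC_ιMulti (n : ℕ) (v : Fin n → M) :
    psiBC A B M (ExteriorAlgebra.ιMulti B n (fun i => (1:B) ⊗ₜ[A] v i)) =
      (1:B) ⊗ₜ[A] ExteriorAlgebra.ιMulti A n v := by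
  induction n with
  | zero =>
    rw [ExteriorAlgebra.ιMulti_zero_apply, ExteriorAlgebra.ιMulti_zero_apply, map_one]
    rfl
  | succ n ih =>
    rw [ExteriorAlgebra.ιMulti_succ_apply, ExteriorAlgebra.ιMulti_succ_apply, map_mul, psiBC_ι,
      ell_tmul]
    have : Matrix.vecTail (fun i => (1:B) ⊗ₜ[A] v i) = fun i => (1:B) ⊗ₜ[A] (Matrix.vecTail v) i :=
      rfl
    rw [this, ih, Algebra.TensorProduct.tmul_mul_tmul, one_mul]

variable {N : Type*} [AddCommGroup N] [Module B N] [Module A N] [IsScalarTower A B N]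
  (e : B ⊗[A] M ≃ₗ[B] N) (p : ℕ)
  (g : ↥(⋀[A]^p M) →ₗ[A] ↥(⋀[B]^p N))
  (hg : ∀ v : Fin p → M, g (ιMulti A p v) = ιMulti B p (fun i => e ((1:B) ⊗ₜ[A] v i)))

/-- the left inverse of the base-change map -/
noncomputable def leftInv : ↥(⋀[B]^p N) →ₗ[B] B ⊗[A] ↥(⋀[A]^p M) :=
  ((gproj p).baseChange B) ∘ₗ (psiBC A B M).toLinearMap ∘ₗ
    (ExteriorAlgebra.map e.symm.toLinearMap).toLinearMap ∘ₗ (⋀[B]^p N).subtype

include hg in
theorem leftInv_g (y : ↥(⋀[A]^p M)) : leftInv e p (g y) = (1:B) ⊗ₜ[A] y := by
  have hy : y ∈ Submodule.span A (Set.range (ιMulti A p (M := M))) := by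
    rw [ιMulti_span]; trivial
  induction hy using Submodule.span_induction with
  | mem y hy =>
    obtain ⟨v, rfl⟩ := hy
    rw [hg]
    unfold leftInv
    simp only [LinearMap.comp_apply, Submodule.subtype_apply, AlgHom.toLinearMap_apply,
      ιMulti_apply_coe, ExteriorAlgebra.map_apply_ιMulti]
    have : (e.symm.toLinearMap ∘ fun i => e ((1:B) ⊗ₜ[A] v i)) = fun i => (1:B) ⊗ₜ[A] v i := by
      funext i; simp
    rw [this, psiBC_ιMulti, LinearMap.baseChange_tmul]
    congr 1
    have := gproj_coe p (ιMulti A p v)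
    rwa [ιMulti_apply_coe] at this
  | zero => simp
  | add y z _ _ hy hz => rw [map_add, map_add, hy, hz, TensorProduct.tmul_add]
  | smul a y _ hy =>
    rw [map_smul, ← algebraMap_smul B a (g y), map_smul, hy, algebraMap_smul,
      TensorProduct.tmul_smul]

include hg in
theorem leftInv_comp : (leftInv e p) ∘ₗ (g.liftBaseChange B) = LinearMap.id := by
  apply TensorProduct.AlgebraTensorModule.ext
  intro b y
  rw [LinearMap.comp_apply, LinearMap.liftBaseChange_tmul, map_smul, leftInv_g e p g hg,
    LinearMap.id_apply, TensorProduct.smul_tmul', smul_eq_mul, mul_one]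

include hg in
theorem liftBaseChange_injective : Function.Injective (g.liftBaseChange B) := by
  intro x y hxy
  have := congrArg (leftInv e p) hxy
  rw [← LinearMap.comp_apply, ← LinearMap.comp_apply, leftInv_comp e p g hg] at this
  exact this

include hg in
theorem liftBaseChange_surjective : Function.Surjective (g.liftBaseChange B) := by
  rw [← LinearMap.range_eq_top, eq_top_iff]
  have hs : Submodule.span B (Set.range fun m : M => e ((1:B) ⊗ₜ[A] m)) = ⊤ := by
    rw [eq_top_iff]
    rintro n -
    obtain ⟨x, rfl⟩ := e.surjective n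
    induction x using TensorProduct.induction_on with
    | zero => simp
    | add x y hx hy => rw [map_add]; exact Submodule.add_mem _ hx hy
    | tmul b m =>
      have : b ⊗ₜ[A] m = b • ((1:B) ⊗ₜ[A] m) := by
        rw [TensorProduct.smul_tmul', smul_eq_mul, mul_one]
      rw [this, map_smul]
      exact Submodule.smul_mem _ _ (Submodule.subset_span ⟨m, rfl⟩)
  rw [← ιMulti_span_of_span B p N hs, Submodule.span_le]
  rintro _ ⟨v, hv, rfl⟩
  choose w hw using fun i => hv (Set.mem_range_self i)
  have : v = fun i => e ((1:B) ⊗ₜ[A] w i) := funext fun i => (hw i).symm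
  rw [this, ← hg]
  exact ⟨(1:B) ⊗ₜ[A] ιMulti A p w, by rw [LinearMap.liftBaseChange_tmul, one_smul]⟩

end BC

end Groth.Agent.Lib.Helper5.DRBC
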