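import Mathlib
import Groth.Prelude.Def_DeRham
import Groth.Agent.Lib.Helper6.DeRhamMap
import Groth.Agent.Lib.Helper5.DRBC.A

universe u
open TensorProduct exteriorPower

namespace Groth.Agent.Lib.Helper5.DRBC

section
variable (R S A B : Type u) [CommRing R] [CommRing S] [CommRing A] [CommRing B]
    [Algebra R S] [Algebra R A] [Algebra R B] [Algebra A B] [Algebra S B]
    [IsScalarTower R A B] [IsScalarTower R S B] [Algebra.IsPushout R S A B]

theorem tensorKaehlerEquiv_one_tmul (ω : Ω[A⁄R]) :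
    KaehlerDifferential.tensorKaehlerEquiv R S A B ((1:B) ⊗ₜ[A] ω) =
      KaehlerDifferential.map R S A B ω := by
  have hω : ω ∈ Submodule.span A (Set.range (KaehlerDifferential.D R A)) := by
    rw [KaehlerDifferential.span_range_derivation]; trivial
  induction hω using Submodule.span_induction with
  | mem ω h =>
    obtain ⟨a, rfl⟩ := h
    rw [KaehlerDifferential.tensorKaehlerEquiv_tmul_D, one_smul, KaehlerDifferential.map_D]
  | zero => simp
  | add x y _ _ hx hy => rw [TensorProduct.tmul_add, map_add, map_add, hx, hy]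
  | smul a x _ hx =>
    have h1 : (1:B) ⊗ₜ[A] (a • x) = (algebraMap A B a) • ((1:B) ⊗ₜ[A] x) := by
      rw [TensorProduct.tmul_smul, algebraMap_smul]
    rw [h1, map_smul, hx, algebraMap_smul, map_smul]

/-- the `B`-linear base change comparison map is bijective -/
theorem cxMap_liftBaseChange_bijective (p : ℕ) :
    Function.Bijective ((Groth.Agent.H6.DR.cxMap R S A B p).liftBaseChange B) := by
  have hg : ∀ v : Fin p → Ω[A⁄R], Groth.Agent.H6.DR.cxMap R S A B p (ιMulti A p v) =
      ιMulti B p (fun i => KaehlerDifferential.tensorKaehlerEquiv R S A B ((1:B) ⊗ₜ[A] v i)) := by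
    intro v
    rw [Groth.Agent.H6.DR.cxMap_ιMulti]
    congr 1
    funext i
    rw [tensorKaehlerEquiv_one_tmul]
  exact ⟨liftBaseChange_injective _ p _ hg, liftBaseChange_surjective _ p _ hg⟩

theorem main15295
    (ψ : ∀ p : ℕ, ↥(⋀[A]^p (Ω[A⁄R])) →+ ↥(⋀[B]^p (Ω[B⁄S])))
    (hψ : DeRham.IsCxMap (KaehlerDifferential.D R A) (KaehlerDifferential.D S B) (algebraMap A B) ψ)
    (p : ℕ) (Φ : S ⊗[R] ↥(⋀[A]^p (Ω[A⁄R])) →+ ↥(⋀[B]^p (Ω[B⁄S])))
    (hΦ : ∀ (s : S) (x : ↥(⋀[A]^p (Ω[A⁄R]))), Φ (s ⊗ₜ[R] x) = s • ψ p x) :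
    Function.Bijective Φ := by
  have hψeq : ∀ x, ψ p x = Groth.Agent.H6.DR.cxMap R S A B p x := fun x => by
    rw [Groth.Agent.H6.DR.eq_cxMap_of_isCxMap R S A B ψ hψ p]; rfl
  set e₁ := (Algebra.IsPushout.cancelBaseChange R S A B ↥(⋀[A]^p (Ω[A⁄R]))).symm with he₁
  have hΦeq : ∀ x, Φ x = (Groth.Agent.H6.DR.cxMap R S A B p).liftBaseChange B (e₁ x) := by
    intro x
    induction x using TensorProduct.induction_on with
    | zero => simp
    | add x y hx hy => rw [map_add, map_add, map_add, hx, hy]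
    | tmul s y =>
      rw [hΦ, hψeq, he₁, Algebra.IsPushout.cancelBaseChange_symm_tmul,
        LinearMap.liftBaseChange_tmul, algebraMap_smul]
  have hb := (cxMap_liftBaseChange_bijective R S A B p).comp e₁.bijective
  convert hb using 1
  funext x
  exact hΦeq x

end

end Groth.Agent.Lib.Helper5.DRBC
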