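import Mathlib
import Groth.Prelude.Def_DeRham
import Groth.Agent.Lib.Helper5.DRBC.B

universe u
open TensorProduct exteriorPower

namespace Groth.Agent.Lib.Helper5.DRBC

theorem ker_lTensor_le {k K : Type*} [Field k] [Field K] [Algebra k K] {E F : Type*}
    [AddCommGroup E] [Module k E] [AddCommGroup F] [Module k F] (f : E →ₗ[k] F)
    (t : K ⊗[k] E) (ht : f.lTensor K t = 0) :
    t ∈ LinearMap.range ((LinearMap.ker f).subtype.lTensor K) := by
  have hex : Function.Exact ((LinearMap.ker f).subtype.lTensor K) (f.lTensor K) :=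
    Module.Flat.lTensor_exact K (LinearMap.exact_subtype_ker_map f)
  exact (hex t).mp ht

theorem main19628
    (k K : Type u) [Field k] [Field K] [Algebra k K]
    (A A' : Type u) [CommRing A] [CommRing A'] [Algebra k A]
    [Algebra A A'] [Algebra k A'] [IsScalarTower k A A'] [Algebra K A'] [IsScalarTower k K A']
    [Algebra.IsPushout k K A A']
    (d : ∀ p : ℕ, ↥(⋀[A]^p (Ω[A⁄k])) →ₗ[k] ↥(⋀[A]^(p + 1) (Ω[A⁄k])))
    (d' : ∀ p : ℕ, ↥(⋀[A']^p (Ω[A'⁄K])) →ₗ[K] ↥(⋀[A']^(p + 1) (Ω[A'⁄K])))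
    (ψ : ∀ p : ℕ, ↥(⋀[A]^p (Ω[A⁄k])) →+ ↥(⋀[A']^p (Ω[A'⁄K])))
    (hψ : DeRham.IsCxMap (KaehlerDifferential.D k A) (KaehlerDifferential.D K A') (algebraMap A A') ψ)
    (hcomm : ∀ (p : ℕ) (x : ↥(⋀[A]^p (Ω[A⁄k]))), ψ (p + 1) (d p x) = d' p (ψ p x))
    (p : ℕ) :
    Submodule.span K (ψ p '' (DeRham.cocycles d p : Set ↥(⋀[A]^p (Ω[A⁄k])))) = DeRham.cocycles d' p ∧
      Submodule.span K (ψ p '' (DeRham.coboundaries d p : Set ↥(⋀[A]^p (Ω[A⁄k])))) =
        DeRham.coboundaries d' p := by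
  have hψeq : ∀ q x, ψ q x = Groth.Agent.H6.DR.cxMap k K A A' q x := fun q x => by
    rw [Groth.Agent.H6.DR.eq_cxMap_of_isCxMap k K A A' ψ hψ q]; rfl
  -- the comparison maps
  let Φ : ∀ q, K ⊗[k] ↥(⋀[A]^q (Ω[A⁄k])) →ₗ[K] ↥(⋀[A']^q (Ω[A'⁄K])) := fun q =>
    ((Groth.Agent.H6.DR.cxMap k K A A' q).restrictScalars k).liftBaseChange K
  have hΦ : ∀ q (s : K) (x : ↥(⋀[A]^q (Ω[A⁄k]))), Φ q (s ⊗ₜ[k] x) = s • ψ q x := by
    intro q s x
    rw [hψeq]
    exact LinearMap.liftBaseChange_tmul _ _ _ _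
  have hbij : ∀ q, Function.Bijective (Φ q) := fun q =>
    main15295 k K A A' ψ hψ q (Φ q).toAddMonoidHom (hΦ q)
  -- every element of the target is a K-combination of ψ-images
  have hrepr : ∀ q (t : K ⊗[k] ↥(⋀[A]^q (Ω[A⁄k]))) (V : Submodule k ↥(⋀[A]^q (Ω[A⁄k]))),
      t ∈ LinearMap.range (V.subtype.lTensor K) →
      Φ q t ∈ Submodule.span K (ψ q '' (V : Set ↥(⋀[A]^q (Ω[A⁄k])))) := by
    rintro q _ V ⟨t', rfl⟩
    induction t' using TensorProduct.induction_on with
    | zero => simp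
    | add x y hx hy => rw [map_add, map_add]; exact Submodule.add_mem _ hx hy
    | tmul s x =>
      rw [LinearMap.lTensor_tmul, hΦ]
      exact Submodule.smul_mem _ _ (Submodule.subset_span ⟨x, x.2, rfl⟩)
  have hcommΦ : ∀ q (t : K ⊗[k] ↥(⋀[A]^q (Ω[A⁄k]))),
      d' q (Φ q t) = Φ (q+1) ((d q).lTensor K t) := by
    intro q t
    induction t using TensorProduct.induction_on with
    | zero => simp
    | add x y hx hy => simp only [map_add, hx, hy]
    | tmul s x => rw [LinearMap.lTensor_tmul, hΦ, hΦ, map_smul, hcomm]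
  constructor
  · apply le_antisymm
    · rw [Submodule.span_le]
      rintro _ ⟨x, hx, rfl⟩
      have hx0 : d p x = 0 := hx
      show d' p (ψ p x) = 0
      rw [← hcomm, hx0, map_zero]
    · intro y hy
      have hy0 : d' p y = 0 := hy
      obtain ⟨t, rfl⟩ := (hbij p).2 y
      rw [hcommΦ] at hy0
      have ht : (d p).lTensor K t = 0 := (hbij (p+1)).1 (by rw [hy0, map_zero])
      exact hrepr p t (LinearMap.ker (d p)) (ker_lTensor_le (d p) t ht)
  · cases p with
    | zero =>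
      have h0 : DeRham.coboundaries d 0 = ⊥ := rfl
      have h0' : DeRham.coboundaries d' 0 = ⊥ := rfl
      rw [h0, h0', eq_bot_iff, Submodule.span_le]
      rintro _ ⟨x, hx, rfl⟩
      have : x = 0 := hx
      rw [this, map_zero]; exact Submodule.zero_mem _
    | succ q =>
      have h1 : DeRham.coboundaries d (q+1) = LinearMap.range (d q) := rfl
      have h1' : DeRham.coboundaries d' (q+1) = LinearMap.range (d' q) := rfl
      rw [h1, h1']
      apply le_antisymm
      · rw [Submodule.span_le]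
        rintro _ ⟨_, ⟨x, rfl⟩, rfl⟩
        exact ⟨ψ q x, (hcomm q x).symm⟩
      · rintro _ ⟨z, rfl⟩
        obtain ⟨t, rfl⟩ := (hbij q).2 z
        rw [hcommΦ]
        apply hrepr (q+1) _ (LinearMap.range (d q))
        -- (d q).lTensor K t ∈ range ((range (d q)).subtype.lTensor K)
        have hfac : (d q) = (LinearMap.range (d q)).subtype ∘ₗ (d q).rangeRestrict := by
          ext x; rfl
        rw [hfac, LinearMap.lTensor_comp]
        exact ⟨_, rfl⟩

end Groth.Agent.Lib.Helper5.DRBC
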